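import Groth.Agent.Lib.Cyc.FieldDim
import Groth.Agent.Lib.Devissage.Dim
import Groth.Agent.Lib.Modules.Support

/-!
# Dimension of closed subsets and `δ = trdeg`
-/

set_option autoImplicit false
universe u

open CategoryTheory AlgebraicGeometry TopologicalSpace

namespace Groth.Agent.Lib.Cyc.DegK.Dim

open Groth.Agent.Lib Groth.Agent.Lib.Cyc

variable {X : Scheme.{u}} {δ : X → ℤ}

theorem dim_le_of_forall (hδ : Cyc.IsDimFun X δ) (hnn : ∀ x, 0 ≤ δ x) {T : Set X} (hT : IsClosed T)
    (m : ℕ) (h : ∀ x ∈ T, δ x ≤ m) : topologicalKrullDim T ≤ m := by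
  have : QuasiSober T := hT.isClosedEmbedding_subtypeVal.quasiSober
  let g : TopologicalSpace.IrreducibleCloseds T → X := fun C => C.2.genericPoint.1
  have hg : ∀ C C', C ≤ C' ↔ g C' ⤳ g C := by
    intro C C'
    rw [← subtype_specializes_iff]
    have h1 := C.2.isGenericPoint_genericPoint C.3
    have h2 := C'.2.isGenericPoint_genericPoint C'.3
    constructor
    · intro h; exact h2.specializes (h h1.mem)
    · intro h a ha
      exact h2.def.subset (specializes_iff_mem_closure.mp (h.trans (h1.specializes ha)))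
  have hlt : ∀ C C', C < C' → δ (g C) < δ (g C') := by
    intro C C' h
    refine DimFun.lt_of_specializes hδ ((hg C C').mp h.le) fun he => h.ne ?_
    exact le_antisymm h.le ((hg C' C).mpr (specializes_of_eq he.symm))
  refine iSup_le fun l => ?_
  have key : ∀ i : ℕ, (hi : i < l.length + 1) → (i : ℤ) ≤ δ (g (l ⟨i, hi⟩)) := by
    intro i
    induction i with
    | zero => intro _; exact hnn _
    | succ i ih =>
      intro hi
      have := ih (by omega)
      have := hlt _ _ (l.step ⟨i, by omega⟩)
      simp only [Fin.castSucc_mk, Fin.succ_mk] at this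
      push_cast
      omega
  have h1 := key l.length (Nat.lt_succ_self _)
  have h2 := h _ (l ⟨l.length, Nat.lt_succ_self _⟩).2.genericPoint.2
  exact_mod_cast (show l.length ≤ m by
    change δ (g _) ≤ _ at h2
    omega)

variable {K : Type u} [Field K] {f : X ⟶ Spec (CommRingCat.of K)}

theorem delta_eq (hδ : Cyc.DeltaCompat f δ (fun _ => 0)) (x : X) :
    δ x = FieldDim.fdelta f x := by
  obtain ⟨n, hn, hn'⟩ := Residue.exists_trdegAt hδ x
  simp [FieldDim.fdelta, hn, hn']

theorem delta_nonneg (hδ : Cyc.DeltaCompat f δ (fun _ => 0)) (x : X) : 0 ≤ δ x := by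
  rw [delta_eq hδ]; exact FieldDim.fdelta_nonneg f x

/-- A point of a closed subset has weight at most the dimension. -/
theorem delta_le [LocallyOfFiniteType f] (hδ : Cyc.DeltaCompat f δ (fun _ => 0)) {T : Set X}
    (hT : IsClosed T) {d : ℕ} (hd : topologicalKrullDim T ≤ d) {x : X} (hx : x ∈ T) : δ x ≤ d := by
  have h := (Devissage.Dim.dim_closure_le hT hx).trans hd
  rw [FieldDim.topologicalKrullDim_closure f x] at h
  have h' : (FieldDim.fdelta f x).toNat ≤ d := by exact_mod_cast h
  rw [delta_eq hδ]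
  omega

theorem dim_support_le (hδ : Cyc.IsDimFun X δ) (hnn : ∀ x, 0 ≤ δ x) {m : ℕ} {F : X.Modules}
    (hF : Cyc.CohLe δ m F) : topologicalKrullDim (CohB1.support F) ≤ m := by
  haveI := hF.1.2
  exact dim_le_of_forall hδ hnn (Modules.Support.isClosed_support F) m fun x hx =>
    hF.2 x (not_subsingleton_iff_nontrivial.1 hx)

end Groth.Agent.Lib.Cyc.DegK.Dim
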