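import Groth.Agent.Lib.GrothVan.Main
import Groth.Agent.Lib.Snapper.Chi
import Groth.Agent.Lib.Snapper.Vanish

/-!
# Vanishing above the dimension of the support
-/

set_option autoImplicit false
set_option linter.style.haveILetI false
universe u

open CategoryTheory CategoryTheory.Limits AlgebraicGeometry TopologicalSpace Opposite

namespace Groth.Agent.Lib.Cyc.DegK.SuppVanish

open Groth.Agent.Lib Groth.Agent.Lib.GrothVan

/-- A series of irreducible closed subsets inside `W` has length at most `dim W`. -/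
theorem height_le_dim {X : Type u} [TopologicalSpace X] {W : Set X} (Z : IrreducibleCloseds X)
    (hZ : (Z : Set X) ⊆ W) :
    ((Order.height Z : ℕ∞) : WithBot ℕ∞) ≤ topologicalKrullDim W := by
  haveI : Nonempty (IrreducibleCloseds W) :=
    let ⟨x, hx⟩ := Z.isIrreducible.nonempty
    ⟨⟨closure {⟨x, hZ hx⟩}, isIrreducible_singleton.closure, isClosed_closure⟩⟩
  have key : ∀ l : LTSeries (IrreducibleCloseds X), l.last ≤ Z →
      ∃ l' : LTSeries (IrreducibleCloseds W), l'.length = l.length := fun l hl => by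
    have hsub : ∀ i, ((l i : IrreducibleCloseds X) : Set X) ⊆ W := fun i =>
      subset_trans (show ((l i : IrreducibleCloseds X) : Set X) ⊆ Z from (l.monotone (Fin.le_last i)).trans hl) hZ
    have hirr : ∀ i, IsIrreducible (Subtype.val ⁻¹' (l i : Set X) : Set W) := fun i => by
      obtain ⟨⟨x, hx⟩, hpre⟩ := (l i).isIrreducible
      refine ⟨⟨⟨x, hsub i hx⟩, hx⟩, fun U V hU hV ⟨a, ha, haU⟩ ⟨b, hb, hbV⟩ => ?_⟩
      obtain ⟨U', hU', rfl⟩ := isOpen_induced_iff.1 hU
      obtain ⟨V', hV', rfl⟩ := isOpen_induced_iff.1 hV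
      obtain ⟨c, hc, hcU, hcV⟩ := hpre U' V' hU' hV' ⟨a.1, ha, haU⟩ ⟨b.1, hb, hbV⟩
      exact ⟨⟨c, hsub i hc⟩, hc, hcU, hcV⟩
    let g : Fin (l.length + 1) → IrreducibleCloseds W := fun i =>
      ⟨Subtype.val ⁻¹' (l i : Set X), hirr i, (l i).isClosed.preimage continuous_subtype_val⟩
    have hg : ∀ i : Fin l.length, g i.castSucc < g i.succ := fun i => by
      have h : l.toFun i.castSucc < l.toFun i.succ := l.step i
      have hne : ¬ l.toFun i.succ ≤ l.toFun i.castSucc := h.not_ge
      refine lt_of_le_not_ge (fun (a : W) (ha : a ∈ (g i.castSucc : Set W)) => ?_) fun hge => hne ?_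
      · exact h.le (show (a : X) ∈ (l.toFun i.castSucc : Set X) from ha)
      · intro x hx
        exact hge (show (⟨x, hsub i.succ hx⟩ : W) ∈ (g i.succ : Set W) from hx)
    exact ⟨⟨l.length, g, hg⟩, rfl⟩
  have h : Order.height Z ≤ (Order.krullDim (IrreducibleCloseds W)).unbotD 0 :=
    Order.height_le fun l hl => by
      obtain ⟨l', hl'⟩ := key l hl.le
      have := Order.LTSeries.length_le_krullDim l'
      rw [hl'] at this
      obtain ⟨a, ha⟩ := WithBot.ne_bot_iff_exists.1
        (Order.bot_lt_krullDim (α := IrreducibleCloseds W)).ne'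
      rw [← ha] at this ⊢
      exact WithBot.coe_le_coe.1 this
  obtain ⟨a, ha⟩ := WithBot.ne_bot_iff_exists.1
    (Order.bot_lt_krullDim (α := IrreducibleCloseds W)).ne'
  change _ ≤ Order.krullDim (IrreducibleCloseds W)
  rw [← ha] at h ⊢
  exact WithBot.coe_le_coe.2 h

theorem H_subsingleton {X : TopCat.{u}} [NoetherianSpace X] (D : ℕ) (hD : topologicalKrullDim X ≤ D)
    (F : CohTop.Ab X) {W : Set X} (hW : IsClosed W) (d : ℕ) (hd : topologicalKrullDim W ≤ d)
    (hF : ∀ x, x ∉ W → Subsingleton (TopCat.Presheaf.stalk F.obj x : AddCommGrpCat.{u}))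
    (p : ℕ) (hp : d < p) : Subsingleton (CohTop.H F p) := by
  refine subsingleton_H_of_sob F p (vanish (R := sobRank X D hD) (d + 1) _ (fun z hz => ?_) p hp
    (Or.inr (by omega)))
  let Z : SobPt X := z
  have hnot : ¬ (Z.val : Set X) ⊆ W := fun hsub => by
    have h1 : Order.height Z.val ≤ (d : ℕ∞) :=
      WithBot.coe_le_coe.1 ((height_le_dim Z.val hsub).trans hd)
    have h3 : (Order.height Z.val).toNat ≤ d := by simpa using ENat.toNat_le_toNat h1 (by simp)
    have h4 : d + 1 ≤ (Order.height Z.val).toNat := hz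
    omega
  refine @AddCommGrpCat.isZero_of_subsingleton _ (subsingleton_of_forall_eq 0 fun v => ?_)
  obtain ⟨U', hzU', s, rfl⟩ :=
    TopCat.Presheaf.exists_germ_eq ((CohTop.push (quot X)).obj F).obj v
  obtain ⟨U, hU⟩ := U'.2
  have hU' : (U' : Set (Sob X)) = SobPt.opn U := hU
  let V : Opens X := U ⊓ ⟨Wᶜ, hW.isOpen_compl⟩
  let V' : Opens (Sob X) := ⟨SobPt.opn V, SobPt.isOpen_opn V⟩
  have hzV : z ∈ V' := by
    change z ∈ (U' : Set (Sob X)) at hzU'
    rw [hU'] at hzU'
    obtain ⟨x, hx, hxW⟩ := Set.not_subset.1 hnot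
    exact Z.val.isIrreducible.2 U Wᶜ U.2 hW.isOpen_compl hzU' ⟨x, hx, hxW⟩
  have hle : V' ≤ U' := fun w hw => by
    obtain ⟨x, hx, hxV⟩ := hw
    change w ∈ (U' : Set (Sob X))
    rw [hU']
    exact ⟨x, hx, hxV.1⟩
  rw [← TopCat.Presheaf.germ_res_apply ((CohTop.push (quot X)).obj F).obj (homOfLE hle) z hzV s]
  refine (congrArg _ ?_).trans (map_zero _)
  refine TopCat.Presheaf.section_ext F ((Opens.map (quot X)).obj V') _ 0 fun x hx => ?_
  haveI := hF x ((mem_preimage_quot.1 hx : x ∈ V).2)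
  exact Subsingleton.elim _ _

variable {k : Type u} [Field k] {X : Scheme.{u}} [X.Over (Spec (CommRingCat.of k))]

theorem subsingleton_HH [NoetherianSpace X] {D : ℕ} (hD : topologicalKrullDim X ≤ D)
    (F : X.Modules) {W : Set X} (hW : IsClosed W) {d : ℕ} (hd : topologicalKrullDim W ≤ d)
    (hF : CohB1.support F ⊆ W) {p : ℕ} (hp : d < p) : Subsingleton (Coh.HH X F p) :=
  H_subsingleton D hD (Coh.toAb F) hW d hd
    (fun _ hx => Modules.Support.not_mem_support_iff.1 fun h => hx (hF h)) p hp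

theorem eulerCharLE_eq [NoetherianSpace X] {D : ℕ} (hD : topologicalKrullDim X ≤ D)
    (F : X.Modules) {W : Set X} (hW : IsClosed W) {d : ℕ} (hd : topologicalKrullDim W ≤ d)
    (hdD : d ≤ D) (hF : CohB1.support F ⊆ W) :
    FGA.eulerCharLE k X F d = FGA.eulerCharLE k X F D := by
  unfold FGA.eulerCharLE
  refine Finset.sum_subset (Finset.range_mono (by omega)) fun i _ hi => ?_
  haveI := subsingleton_HH hD F hW hd hF (p := i) (by simp at hi; omega)
  simp [Module.finrank_zero_of_subsingleton]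

theorem sym_eq [NoetherianSpace X] {D : ℕ} (hD : topologicalKrullDim X ≤ D)
    {W : Set X} (hW : IsClosed W) {d : ℕ} (hd : topologicalKrullDim W ≤ d) (hdD : d ≤ D) :
    ∀ (l : List X.Modules), (∀ M ∈ l, PicF.IsInvertible M) → ∀ (F : X.Modules),
      CohB1.support F ⊆ W →
      Snapper.Vanish.sym k X d l F = Snapper.Vanish.sym k X D l F
  | [], _, F, hF => eulerCharLE_eq hD F hW hd hdD hF
  | M :: l, hl, F, hF => by
    have hl' : ∀ N ∈ l, PicF.IsInvertible N := fun N hN => hl N (by simp [hN])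
    rw [Snapper.Vanish.sym_cons, Snapper.Vanish.sym_cons, sym_eq hD hW hd hdD l hl' F hF,
      sym_eq hD hW hd hdD l hl' _ ((Snapper.Twist.support_twist (hl M (by simp)) F).subset.trans hF)]

end Groth.Agent.Lib.Cyc.DegK.SuppVanish
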